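import Groth.Prelude.Def_Wider
import Groth.Prelude.Def_DDual2
import Groth.Agent.DRingTorAmp.Restrict
import Mathlib.Algebra.Homology.DerivedCategory.ExactFunctor
import Mathlib.CategoryTheory.Shift.Adjunction

/-!
# The dimension function of the dualizing complex of a quotient
-/

universe u

open CategoryTheory Limits

namespace Groth.Agent.DeltaClosed

attribute [local instance] HasDerivedCategory.standard

variable {A B : Type u} [CommRing A] [CommRing B] (φ : A →+* B)

theorem restrictD_map_smul {X Y : Dual.D B} (C : DRing.Cx B) (e : DRing.toD C ≅ X) (a : A) (f : X ⟶ Y) :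
    (DRing.restrictD φ).map (φ a • f) = a • (DRing.restrictD φ).map f := by
  have h : (DRing.restrictCx φ).map (φ a • 𝟙 C) = a • 𝟙 ((DRing.restrictCx φ).obj C) :=
    HomologicalComplex.hom_ext _ _ fun i => ModuleCat.hom_ext (LinearMap.ext fun x => rfl)
  have h1 : (DRing.restrictD φ).map (DerivedCategory.Q.map (φ a • 𝟙 C)) =
      a • 𝟙 ((DRing.restrictD φ).obj (DRing.toD C)) := by
    have hn := (ModuleCat.restrictScalars.{u} φ).mapDerivedCategoryFactors.hom.naturality (φ a • 𝟙 C)
    rw [← cancel_mono ((ModuleCat.restrictScalars.{u} φ).mapDerivedCategoryFactors.hom.app C)]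
    refine hn.trans ?_
    show _ ≫ DerivedCategory.Q.map ((DRing.restrictCx φ).map (φ a • 𝟙 C)) = _
    rw [h, Functor.map_smul, CategoryTheory.Functor.map_id, Linear.comp_smul, Linear.smul_comp]
    simp
    rfl
  have h2 : φ a • f = e.inv ≫ DerivedCategory.Q.map (φ a • 𝟙 C) ≫ e.hom ≫ f := by
    rw [Functor.map_smul, CategoryTheory.Functor.map_id, Linear.smul_comp, Category.id_comp, Linear.comp_smul,
      e.inv_hom_id_assoc]
  rw [h2, Functor.map_comp, Functor.map_comp, h1, Linear.smul_comp, Category.id_comp, Linear.comp_smul,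
    ← Functor.map_comp, e.inv_hom_id_assoc]

theorem nontrivial_iff [Algebra A B] (hs : Function.Surjective (algebraMap A B)) (R : Dual.D A ⥤ Dual.D B)
    (adj : DRing.restrictD (algebraMap A B) ⊣ R) (ω : Dual.D A) (q : PrimeSpectrum B) (i : ℤ) :
    Nontrivial (LocalizedModule q.asIdeal.primeCompl (Dual.inD B (B ⧸ q.asIdeal) ⟶ (R.obj ω)⟦i⟧)) ↔
      Nontrivial (LocalizedModule (q.asIdeal.comap (algebraMap A B)).primeCompl
        (Dual.inD A (A ⧸ q.asIdeal.comap (algebraMap A B)) ⟶ ω⟦i⟧)) := by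
  let φ := algebraMap A B
  let p := q.asIdeal.comap φ
  letI := adj.rightAdjointCommShift ℤ
  let M := ModuleCat.of B (B ⧸ q.asIdeal)
  let c := (R.commShiftIso i).app ω
  let l : (A ⧸ p) →ₗ[A] ((ModuleCat.restrictScalars.{u} φ).obj M) :=
    Submodule.liftQ p
      ({ toFun := fun a => (Ideal.Quotient.mk q.asIdeal (φ a) : B ⧸ q.asIdeal)
         map_add' := fun a b => by rw [map_add, map_add]; rfl
         map_smul' := fun a b => by
           show Ideal.Quotient.mk q.asIdeal (φ (a * b)) = φ a • Ideal.Quotient.mk q.asIdeal (φ b)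
           rw [map_mul, map_mul]
           rfl } : A →ₗ[A] ((ModuleCat.restrictScalars.{u} φ).obj M))
      (fun a ha => Ideal.Quotient.eq_zero_iff_mem.2 ha)
  have hl : Function.Bijective l := by
    refine ⟨(injective_iff_map_eq_zero l).2 fun x hx => ?_, fun y => ?_⟩
    · obtain ⟨a, rfl⟩ := Submodule.Quotient.mk_surjective p x
      exact (Submodule.Quotient.mk_eq_zero p).2 ((Ideal.Quotient.eq_zero_iff_mem (I := q.asIdeal)).1 hx)
    · obtain ⟨b, rfl⟩ := Ideal.Quotient.mk_surjective (y : B ⧸ q.asIdeal)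
      obtain ⟨a, rfl⟩ := hs b
      exact ⟨Submodule.Quotient.mk a, rfl⟩
  let τ : (DRing.restrictD φ).obj (Dual.inD B (B ⧸ q.asIdeal)) ≅ Dual.inD A (A ⧸ p) :=
    ((ModuleCat.restrictScalars.{u} φ).mapDerivedCategorySingleFunctor 0).app M ≪≫
      (DerivedCategory.singleFunctor (ModuleCat.{u} A) 0).mapIso (LinearEquiv.ofBijective l hl).toModuleIso.symm
  let Φ : (Dual.inD B (B ⧸ q.asIdeal) ⟶ (R.obj ω)⟦i⟧) ≃ (Dual.inD A (A ⧸ p) ⟶ ω⟦i⟧) :=
    (Iso.homCongr (Iso.refl _) c.symm).trans ((adj.homEquiv _ _).symm.trans (Iso.homCongr τ (Iso.refl _)))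
  have hΦ : ∀ (a : A) f, Φ (φ a • f) = a • Φ f := fun a f => by
    simp only [Φ, Equiv.trans_apply, Iso.homCongr_apply, Iso.refl_inv, Iso.refl_hom, Category.id_comp,
      Category.comp_id, Adjunction.homEquiv_counit]
    rw [Linear.smul_comp, restrictD_map_smul φ ((HomologicalComplex.single (ModuleCat.{u} B) (ComplexShape.up ℤ) 0).obj M)
      ((DerivedCategory.singleFunctorIsoCompQ (ModuleCat.{u} B) 0).app M).symm, Linear.smul_comp, Linear.comp_smul]
  have hΦ0 : Φ 0 = 0 := by
    simp [Φ, Adjunction.homEquiv_counit]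
  rw [← not_subsingleton_iff_nontrivial, ← not_subsingleton_iff_nontrivial, not_iff_not,
    IsLocalizedModule.subsingleton_iff q.asIdeal.primeCompl (LocalizedModule.mkLinearMap q.asIdeal.primeCompl _),
    IsLocalizedModule.subsingleton_iff p.primeCompl (LocalizedModule.mkLinearMap p.primeCompl _)]
  constructor
  · intro h g
    obtain ⟨s, hs', hg⟩ := h (Φ.symm g)
    obtain ⟨a, rfl⟩ := hs s
    refine ⟨a, hs', ?_⟩
    have := hΦ a (Φ.symm g)
    rw [hg, hΦ0, Equiv.apply_symm_apply] at this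
    exact this.symm
  · intro h f
    obtain ⟨a, ha, hg⟩ := h (Φ f)
    exact ⟨φ a, ha, Φ.injective ((hΦ a f).trans (hg.trans hΦ0.symm))⟩

end Groth.Agent.DeltaClosed
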