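import Groth.Agent.DeltaClosed.Finite
import Groth.Agent.DualCx.AtPrime
import Groth.Agent.DerCat.Devissage
import Groth.Prelude.Def_DRing2
import Mathlib.Algebra.Homology.DerivedCategory.KInjective
import Mathlib.Algebra.Homology.DerivedCategory.TStructure

/-!
# Finiteness of maps into an object of finite injective dimension
-/

universe u

open CategoryTheory Limits Pretriangulated

namespace Groth.Agent.DeltaClosed

attribute [local instance] HasDerivedCategory.standard

variable {A : Type u} [CommRing A]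

theorem eq_zero_of_inj (E : DRing.Cx A) (hE : DRing.TermwiseInjective E) (c d : ℤ) (hcd : DRing.VanishesOutside E c d)
    (X : Dual.D A) (m : ℤ) (hm : d < m) [X.IsGE m] (f : X ⟶ DRing.toD E) : f = 0 := by
  haveI : E.IsStrictlyGE c := ((CochainComplex.isStrictlyGE_iff E c).2 fun i hi => hcd i (Or.inl hi))
  haveI : ∀ n, Injective (E.X n) := fun n => (Module.injective_iff_injective_object A (E.X n)).1 (hE n)
  haveI : E.IsKInjective := CochainComplex.isKInjective_of_injective E c
  obtain ⟨X', _, ⟨e⟩⟩ := X.exists_iso_Q_obj_of_isGE m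
  obtain ⟨ψ, hψ⟩ := (CochainComplex.IsKInjective.Qh_map_bijective ((HomotopyCategory.quotient _ _).obj X') E).2
    ((DerivedCategory.quotientCompQhIso _).hom.app X' ≫ e.inv ≫ f ≫ (DerivedCategory.quotientCompQhIso _).inv.app E)
  obtain ⟨χ, rfl⟩ := (HomotopyCategory.quotient _ _).map_surjective ψ
  have hχ : χ = 0 := HomologicalComplex.hom_ext _ _ fun i => by
    rcases lt_or_ge i m with h | h
    · exact (X'.isZero_of_isStrictlyGE m i h).eq_of_src _ _
    · exact (hcd i (Or.inr (by omega))).eq_of_tgt _ _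
  rw [hχ, Functor.map_zero, Functor.map_zero] at hψ
  have h := hψ.symm
  rw [Preadditive.IsIso.comp_left_eq_zero, Preadditive.IsIso.comp_left_eq_zero, Preadditive.IsIso.comp_right_eq_zero] at h
  exact h

theorem finite_hom [IsNoetherianRing A] (K L : Dual.D A) (hK : ∀ i : ℤ, Module.Finite A (Dual.HD A K i))
    (hL : ∀ i : ℤ, Module.Finite A (Dual.HD A L i)) (hLi : DRing.HasFiniteInjDim A L) (i : ℤ) :
    Module.Finite A (K ⟶ L⟦i⟧) := by
  obtain ⟨c, d, E, hcd, hE, ⟨eE⟩⟩ := hLi
  let t := DerivedCategory.TStructure.t (C := ModuleCat.{u} A)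
  haveI : E.IsStrictlyGE c := ((CochainComplex.isStrictlyGE_iff E c).2 fun i hi => hcd i (Or.inl hi))
  haveI : (DRing.toD E).IsGE c := inferInstanceAs ((DerivedCategory.Q.obj E).IsGE c)
  haveI : L.IsGE c := t.isGE_of_iso eE c
  have hLc : ∀ j : ℤ, j < c → Subsingleton (Dual.HD A L j) := fun j hj =>
    ModuleCat.subsingleton_of_isZero ((DerivedCategory.isGE_iff L c).1 inferInstance j hj)
  haveI : (L⟦i⟧).IsGE (c - i) := t.isGE_shift L c i (c - i) (by omega)
  have hmid : ∀ (M : Dual.D A) (p q : ℤ), M.IsGE p → M.IsLE q → (∀ n, Module.Finite A (Dual.HD A M n)) →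
      Module.Finite A (M ⟶ L⟦i⟧) := fun M p q _ _ hM => by
    let Q : ObjectProperty (Dual.D A) := fun Z => Module.Finite A (Z ⟶ L⟦i⟧)
    haveI : Q.IsClosedUnderIsomorphisms := ⟨fun {X Y} e hX =>
      (by haveI : Module.Finite A (X ⟶ L⟦i⟧) := hX
          exact Module.Finite.equiv (Linear.homCongr A e (Iso.refl (L⟦i⟧))))⟩
    refine DerCat.prop_of_single Q (fun Z hZ => ?_) (fun T hT h1 h3 => ?_) M p q fun n _ _ => ?_
    · haveI : Subsingleton (Z ⟶ L⟦i⟧) := ⟨fun f g => hZ.eq_of_src f g⟩
      exact (inferInstance : Module.Finite A (Z ⟶ L⟦i⟧))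
    · refine ⟨Submodule.fg_of_fg_map_of_fg_inf_ker (Linear.leftComp A (L⟦i⟧) T.mor₁) ?_ ?_⟩
      · haveI : Module.Finite A (T.obj₁ ⟶ L⟦i⟧) := h1
        exact IsNoetherian.noetherian _
      · rw [top_inf_eq]
        have : LinearMap.ker (Linear.leftComp A (L⟦i⟧) T.mor₁) = LinearMap.range (Linear.leftComp A (L⟦i⟧) T.mor₂) := by
          ext f
          constructor
          · intro hf
            obtain ⟨g, hg⟩ := Triangle.yoneda_exact₂ T hT f hf
            exact ⟨g, hg.symm⟩
          · rintro ⟨g, rfl⟩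
            show T.mor₁ ≫ T.mor₂ ≫ g = 0
            rw [← Category.assoc, comp_distTriang_mor_zero₁₂ T hT, zero_comp]
        rw [this, LinearMap.range_eq_map]
        exact (show Module.Finite A (T.obj₃ ⟶ L⟦i⟧) from h3).fg_top.map _
    · haveI : Module.Finite A (Dual.HD A M n) := hM n
      haveI := finite_T L c hLc hL ((i + n - c).toNat + 1) (i + n) (by omega) (Dual.HD A M n)
      exact Module.Finite.equiv (DualCx.singleEquiv n i _).symm
  let K₁ := (t.truncGT (c - i - 1)).obj K
  haveI : K₁.IsGE (c - i) := by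
    have : K₁.IsGE (c - i - 1 + 1) := inferInstance
    simpa using this
  let K₂ := (t.truncLE (d - i)).obj K₁
  have hK₁ : ∀ n, Module.Finite A (Dual.HD A K₁ n) := fun n => by
    rcases lt_or_ge n (c - i) with h | h
    · haveI : Subsingleton (Dual.HD A K₁ n) :=
        ModuleCat.subsingleton_of_isZero ((DerivedCategory.isGE_iff K₁ (c - i)).1 inferInstance n h)
      infer_instance
    · haveI := hK n
      haveI := DerCat.isIso_homology_truncGTπ K (c - i - 1) n (by omega)
      let e : Dual.HD A K n ≃ₗ[A] Dual.HD A K₁ n := (asIso ((DerivedCategory.homologyFunctor (ModuleCat.{u} A) n).map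
        ((t.truncGTπ (c - i - 1)).app K))).toLinearEquiv
      exact Module.Finite.equiv e
  haveI hGE2 : K₂.IsGE (c - i) := inferInstance
  have hK₂ : ∀ n, Module.Finite A (Dual.HD A K₂ n) := fun n => by
    rcases le_or_gt n (d - i) with h | h
    · haveI := hK₁ n
      haveI := DerCat.isIso_homology_truncLEι K₁ (d - i) n h
      let e : Dual.HD A K₁ n ≃ₗ[A] Dual.HD A K₂ n := (asIso ((DerivedCategory.homologyFunctor (ModuleCat.{u} A) n).map
        ((t.truncLEι (d - i)).app K₁))).symm.toLinearEquiv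
      exact Module.Finite.equiv e
    · haveI : Subsingleton (Dual.HD A K₂ n) :=
        ModuleCat.subsingleton_of_isZero ((DerivedCategory.isLE_iff K₂ (d - i)).1 inferInstance n h)
      infer_instance
  haveI := hmid K₂ (c - i) (d - i) hGE2 inferInstance hK₂
  haveI : Module.Finite A (K₁ ⟶ L⟦i⟧) := by
    refine Module.Finite.of_injective (Linear.leftComp A (L⟦i⟧) ((t.truncLEι (d - i)).app K₁))
      ((injective_iff_map_eq_zero _).2 fun f hf => ?_)
    obtain ⟨g, rfl⟩ := Triangle.yoneda_exact₂ _ (t.triangleLEGT_distinguished (d - i) K₁) f hf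
    have hg : g = 0 := by
      let Y := (t.truncGT (d - i)).obj K₁
      haveI : (Y⟦-i⟧).IsGE (d + 1) := t.isGE_shift Y (d - i + 1) (-i) (d + 1) (by omega)
      refine (shiftFunctor (Dual.D A) (-i)).map_injective ?_
      have := eq_zero_of_inj E hE c d hcd (Y⟦-i⟧) (d + 1) (by omega)
        ((shiftFunctor (Dual.D A) (-i)).map g ≫
          (shiftFunctorCompIsoId (Dual.D A) i (-i) (by omega)).hom.app L ≫ eE.inv)
      rw [Functor.map_zero]
      exact (Preadditive.IsIso.comp_right_eq_zero _ _).1 this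
    subst hg
    exact comp_zero
  haveI : t.IsLE ((t.triangleLEGT (c - i - 1)).obj K).obj₁ (c - i - 1) :=
    inferInstanceAs (t.IsLE ((t.truncLE (c - i - 1)).obj K) (c - i - 1))
  refine Module.Finite.of_surjective (Linear.leftComp A (L⟦i⟧) ((t.truncGTπ (c - i - 1)).app K)) fun f => ?_
  obtain ⟨g, hg⟩ := Triangle.yoneda_exact₂ _ (t.triangleLEGT_distinguished (c - i - 1) K) f
    (t.zero _ (c - i - 1) (c - i) (by omega))
  exact ⟨g, hg.symm⟩

end Groth.Agent.DeltaClosed
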