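import Groth.Agent.DeltaClosed.Basic
import Groth.Agent.DualCx.Eval

/-!
# Finiteness of the cohomology of the right adjoint to a finite restriction
-/

universe u

open CategoryTheory Limits

namespace Groth.Agent.DeltaClosed

attribute [local instance] HasDerivedCategory.standard

theorem finite_T {A : Type u} [CommRing A] [IsNoetherianRing A] (K : Dual.D A) (a : ℤ)
    (hKa : ∀ i : ℤ, i < a → Subsingleton (Dual.HD A K i)) (hK : ∀ i : ℤ, Module.Finite A (Dual.HD A K i))
    (n : ℕ) : ∀ (j : ℤ), j < a + n → ∀ (N : Type u) [AddCommGroup N] [Module A N] [Module.Finite A N],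
      Module.Finite A (DualCx.T K j (ModuleCat.of A N)) := by
  induction n with
  | zero =>
    intro j hj N _ _ _
    have hGE : K.IsGE a := (DerivedCategory.isGE_iff K a).2 fun i hi => by
      have := hKa i hi
      exact ModuleCat.isZero_of_subsingleton _
    have : (K⟦j⟧).IsGE (a - j) := DerivedCategory.TStructure.t.isGE_shift K a j (a - j) (by omega)
    have : Subsingleton (DualCx.T K j (ModuleCat.of A N)) :=
      subsingleton_of_forall_eq 0 fun f => DerivedCategory.TStructure.t.zero f 0 (a - j) (by omega)
    infer_instance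
  | succ n ih =>
    intro j hj N _ _ _
    obtain ⟨m, p, hp⟩ := Module.Finite.exists_fin' A N
    let S : ShortComplex (ModuleCat.{u} A) := ShortComplex.mk (ModuleCat.ofHom (LinearMap.ker p).subtype)
      (ModuleCat.ofHom p) (ModuleCat.hom_ext (LinearMap.ext fun x => x.2))
    have hS : S.ShortExact :=
      { exact := (ShortComplex.ShortExact.moduleCat_exact_iff_function_exact S).2 fun x =>
          ⟨fun hx => ⟨⟨x, hx⟩, rfl⟩, by rintro ⟨y, rfl⟩; exact y.2⟩
        mono_f := (ModuleCat.mono_iff_injective _).2 (LinearMap.ker p).injective_subtype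
        epi_g := (ModuleCat.epi_iff_surjective _).2 hp }
    haveI h1 : Module.Finite A (DualCx.T K (j - 1) S.X₁) := ih (j - 1) (by omega) _
    haveI : Module.Finite A (Dual.HD A K j) := hK j
    haveI : Module.Finite A (Fin m → A) := inferInstance
    haveI h2 : Module.Finite A (DualCx.T K j S.X₂) := by
      haveI : Projective S.X₂ := inferInstanceAs (Projective (ModuleCat.of A (Fin m → A)))
      have e : DualCx.T K j S.X₂ ≃ₗ[A] ((Fin m → A) →ₗ[A] Dual.HD A K j) :=
        (LinearEquiv.ofBijective _ (DualCx.ev_bijective K j S.X₂)).trans ModuleCat.homLinearEquiv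
      exact Module.Finite.equiv e.symm
    have hex : Function.Exact (DualCx.δ K hS (j - 1) j (by omega)) (DualCx.res K (j := j) S.g) := fun g =>
      ⟨fun hg => DualCx.exact₃ K hS (by omega) g hg, by
        rintro ⟨x, rfl⟩
        show (DerivedCategory.singleFunctor (ModuleCat.{u} A) 0).map S.g ≫ hS.singleδ ≫ _ = 0
        exact (Category.assoc _ _ _).symm.trans
          ((congrArg (· ≫ _) (Pretriangulated.comp_distTriang_mor_zero₂₃ _ hS.singleTriangle_distinguished)).trans zero_comp)⟩
    exact ⟨Submodule.fg_of_fg_map_of_fg_inf_ker (DualCx.res K (j := j) S.g) (IsNoetherian.noetherian _) (by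
      rw [top_inf_eq, LinearMap.exact_iff.1 hex, LinearMap.range_eq_map]
      exact h1.fg_top.map _)⟩

theorem finite_rightAdjoint {A B : Type u} [CommRing A] [CommRing B] [Algebra A B] [IsNoetherianRing A]
    [Module.Finite A B] (R : Dual.D A ⥤ Dual.D B) (adj : DRing.restrictD (algebraMap A B) ⊣ R) (K : Dual.D A)
    (a : ℤ) (hKa : ∀ i : ℤ, i < a → Subsingleton (Dual.HD A K i)) (hK : ∀ i : ℤ, Module.Finite A (Dual.HD A K i))
    (i : ℤ) : Module.Finite B (Dual.HD B (R.obj K) i) := by
  let φ := algebraMap A B
  letI := adj.rightAdjointCommShift ℤ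
  let M := ModuleCat.of B B
  let N := (ModuleCat.restrictScalars.{u} φ).obj M
  haveI : Projective M := inferInstanceAs (Projective (ModuleCat.of B B))
  let l : B →ₗ[A] N :=
    { toFun := fun b => (b : B)
      map_add' := fun _ _ => rfl
      map_smul' := fun r b => by
        show r • b = φ r • b
        exact (algebraMap_smul B r b).symm }
  haveI : Module.Finite A N := Module.Finite.of_surjective l (fun b => ⟨(b : B), rfl⟩)
  have hN : Module.Finite A (DualCx.T K i N) :=
    finite_T K a hKa hK ((i - a).toNat + 1) i (by omega) N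
  let c := (R.commShiftIso i).app K
  let τ : (DRing.restrictD φ).obj (Dual.inD B B) ≅ (DerivedCategory.singleFunctor (ModuleCat.{u} A) 0).obj N :=
    ((ModuleCat.restrictScalars.{u} φ).mapDerivedCategorySingleFunctor 0).app M
  let Φ : DualCx.T (R.obj K) i M ≃ DualCx.T K i N :=
    (Iso.homCongr (Iso.refl _) c.symm).trans ((adj.homEquiv _ _).symm.trans (Iso.homCongr τ (Iso.refl _)))
  have hΦ : ∀ (r : A) f, Φ (φ r • f) = r • Φ f := fun r f => by
    simp only [Φ, Equiv.trans_apply, Iso.homCongr_apply, Iso.refl_inv, Iso.refl_hom, Category.id_comp,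
      Category.comp_id, Adjunction.homEquiv_counit]
    rw [Linear.smul_comp, restrictD_map_smul φ ((HomologicalComplex.single (ModuleCat.{u} B) (ComplexShape.up ℤ) 0).obj M)
      ((DerivedCategory.singleFunctorIsoCompQ (ModuleCat.{u} B) 0).app M).symm, Linear.smul_comp, Linear.comp_smul]
  have hΦadd : ∀ f g, Φ (f + g) = Φ f + Φ g := fun f g => by
    simp only [Φ, Equiv.trans_apply, Iso.homCongr_apply, Iso.refl_inv, Iso.refl_hom, Category.id_comp,
      Category.comp_id, Adjunction.homEquiv_counit, Preadditive.add_comp, Functor.map_add, Preadditive.comp_add]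
  have hT : Module.Finite B (DualCx.T (R.obj K) i M) := by
    classical
    obtain ⟨s, hs⟩ := hN.fg_top
    refine ⟨⟨s.image Φ.symm, eq_top_iff.2 fun f _ => ?_⟩⟩
    have key : ∀ g ∈ Submodule.span A (s : Set (DualCx.T K i N)),
        Φ.symm g ∈ Submodule.span B ((s.image Φ.symm : Finset _) : Set (DualCx.T (R.obj K) i M)) := fun g hg => by
      induction hg using Submodule.span_induction with
      | mem x hx => exact Submodule.subset_span (Finset.mem_image_of_mem _ hx)
      | zero =>
        have : Φ 0 = 0 := by simpa using hΦadd 0 0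
        rw [← this, Equiv.symm_apply_apply]; exact zero_mem _
      | add x y _ _ hx hy =>
        have : Φ (Φ.symm x + Φ.symm y) = x + y := by rw [hΦadd, Φ.apply_symm_apply, Φ.apply_symm_apply]
        rw [← this, Equiv.symm_apply_apply]; exact add_mem hx hy
      | smul r x _ hx =>
        have : Φ (φ r • Φ.symm x) = r • x := by rw [hΦ, Φ.apply_symm_apply]
        rw [← this, Equiv.symm_apply_apply]; exact Submodule.smul_mem _ _ hx
    have := key (Φ f) (hs.ge Submodule.mem_top)
    rwa [Equiv.symm_apply_apply] at this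
  exact Module.Finite.equiv ((LinearEquiv.ofBijective _ (DualCx.ev_bijective (R.obj K) i M)).trans
    (ModuleCat.homLinearEquiv.trans (LinearMap.ringLmapEquivSelf B B _)))

end Groth.Agent.DeltaClosed
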